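import Mathlib.RingTheory.RegularLocalRing.Defs
import Mathlib.RingTheory.Ideal.KrullsHeightTheorem
import Mathlib.RingTheory.KrullDimension.NonZeroDivisors
import Mathlib.RingTheory.Smooth.Basic

/-!
Local homomorphisms injective on cotangent spaces.
-/

set_option autoImplicit false

open IsLocalRing

namespace Groth.Agent.CotangentInjLib

universe u

variable {A B : Type u} [CommRing A] [CommRing B] [IsLocalRing A] [IsLocalRing B] [Algebra A B]
  [IsLocalHom (algebraMap A B)]

/-- A formally smooth local homomorphism with trivial residue extension is injective on cotangent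
spaces. -/
theorem mem_sq_of_formallySmooth [Algebra.FormallySmooth A B]
    (hres : ∀ b : B, ∃ a : A, b - algebraMap A B a ∈ maximalIdeal B)
    {a : A} (hB : algebraMap A B a ∈ maximalIdeal B ^ 2) : a ∈ maximalIdeal A ^ 2 := by
  have hbij : Function.Bijective (Algebra.ofId (ResidueField A) (ResidueField B)) := by
    refine ⟨(algebraMap (ResidueField A) (ResidueField B)).injective, fun x => ?_⟩
    obtain ⟨b, rfl⟩ := residue_surjective x
    obtain ⟨a, ha⟩ := hres b
    refine ⟨residue A a, ?_⟩
    show algebraMap (ResidueField A) (ResidueField B) (residue A a) = residue B b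
    rw [show algebraMap (ResidueField A) (ResidueField B) (residue A a) = residue B (algebraMap A B a) from rfl]
    exact (Ideal.Quotient.eq.2 ha).symm
  let e := AlgEquiv.ofBijective (Algebra.ofId (ResidueField A) (ResidueField B)) hbij
  let g : B →ₐ[A] ResidueField A :=
    (e.symm.toAlgHom.restrictScalars A).comp (IsScalarTower.toAlgHom A B (ResidueField B))
  let p : (A ⧸ maximalIdeal A ^ 2) →ₐ[A] ResidueField A :=
    Ideal.Quotient.factorₐ A (Ideal.pow_le_self (n := 2) two_ne_zero)
  have hps : Function.Surjective p := Ideal.Quotient.factor_surjective (Ideal.pow_le_self (n := 2) two_ne_zero)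
  have hnil : IsNilpotent (RingHom.ker (p : (A ⧸ maximalIdeal A ^ 2) →+* ResidueField A)) := by
    refine ⟨2, le_bot_iff.1 ?_⟩
    have hk : RingHom.ker (p : (A ⧸ maximalIdeal A ^ 2) →+* ResidueField A) ≤
        (maximalIdeal A).map (Ideal.Quotient.mk (maximalIdeal A ^ 2)) := by
      intro x hx
      obtain ⟨y, rfl⟩ := Ideal.Quotient.mk_surjective x
      exact Ideal.mem_map_of_mem _ (Ideal.Quotient.eq_zero_iff_mem.1 hx)
    refine (Ideal.pow_right_mono hk 2).trans ?_
    rw [← Ideal.map_pow, Ideal.map_quotient_self]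
  let ψ := Algebra.FormallySmooth.liftOfSurjective g p hps hnil
  have hψ : ∀ b, p (ψ b) = g b := fun b =>
    Algebra.FormallySmooth.liftOfSurjective_apply g p hps hnil b
  have hm : ∀ b ∈ maximalIdeal B, ψ b ∈ (maximalIdeal A).map (Ideal.Quotient.mk (maximalIdeal A ^ 2)) := by
    intro b hb
    obtain ⟨y, hy⟩ := Ideal.Quotient.mk_surjective (ψ b)
    rw [← hy]
    refine Ideal.mem_map_of_mem _ ((residue_eq_zero_iff y).1 ?_)
    have h1 := hψ b
    rw [← hy] at h1
    refine h1.trans ?_
    show e.symm (residue B b) = 0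
    rw [(residue_eq_zero_iff b).2 hb, map_zero]
  have h2 : ψ (algebraMap A B a) ∈ ((maximalIdeal A).map (Ideal.Quotient.mk (maximalIdeal A ^ 2))) ^ 2 := by
    refine Ideal.pow_right_mono (Ideal.map_le_iff_le_comap.2 hm) 2 ?_
    rw [← Ideal.map_pow]
    exact Ideal.mem_map_of_mem _ hB
  rw [← Ideal.map_pow, Ideal.map_quotient_self, Ideal.mem_bot, AlgHom.commutes] at h2
  exact Ideal.Quotient.eq_zero_iff_mem.1 h2

/-- A local homomorphism into a regular local ring, with trivial residue extension and injective on
cotangent spaces, from a Noetherian local domain is injective. -/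
theorem injective_of_cotangent [IsNoetherianRing A] [IsDomain A] [IsRegularLocalRing B]
    (hres : ∀ b : B, ∃ a : A, b - algebraMap A B a ∈ maximalIdeal B)
    (hinj : ∀ a ∈ maximalIdeal A, algebraMap A B a ∈ maximalIdeal B ^ 2 → a ∈ maximalIdeal A ^ 2) :
    Function.Injective (algebraMap A B) := by
  classical
  let bA := Module.finBasis (ResidueField A) (CotangentSpace A)
  set r := Module.finrank (ResidueField A) (CotangentSpace A) with hr
  choose y hy using fun i => (maximalIdeal A).toCotangent_surjective (bA i)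
  let z : Fin r → maximalIdeal B := fun i => ⟨algebraMap A B (y i), map_nonunit _ _ (y i).2⟩
  have hli : LinearIndependent (ResidueField B) fun i => (maximalIdeal B).toCotangent (z i) := by
    rw [Fintype.linearIndependent_iff]
    intro g hg i
    choose c hc using fun i => residue_surjective (R := B) (g i)
    choose a ha using fun i => hres (c i)
    have h1 : (maximalIdeal B).toCotangent (∑ i, algebraMap A B (a i) • z i) = 0 := by
      rw [map_sum, ← hg]
      refine Finset.sum_congr rfl fun i _ => ?_
      rw [map_smul, ← hc i, show residue B (c i) = residue B (algebraMap A B (a i)) from Ideal.Quotient.eq.2 (ha i)]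
      exact (IsScalarTower.algebraMap_smul (ResidueField B) _ _).symm
    rw [Ideal.toCotangent_eq_zero, Submodule.coe_sum] at h1
    have h2 : algebraMap A B (∑ i, a i * (y i : A)) ∈ maximalIdeal B ^ 2 := by
      simpa [z, map_sum, map_mul, Algebra.smul_def] using h1
    have h3 := hinj _ (Ideal.sum_mem _ fun i _ => Ideal.mul_mem_left _ _ (y i).2) h2
    have h4 : (maximalIdeal A).toCotangent (∑ i, a i • y i) = 0 := by
      rw [Ideal.toCotangent_eq_zero, Submodule.coe_sum]
      simpa using h3
    have h5 : ∑ i, residue A (a i) • bA i = 0 := by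
      rw [← h4, map_sum]
      refine Finset.sum_congr rfl fun i _ => ?_
      rw [map_smul, hy]
      exact IsScalarTower.algebraMap_smul (ResidueField A) _ _
    have h6 := Fintype.linearIndependent_iff.1 bA.linearIndependent _ h5 i
    rw [← hc i, show residue B (c i) = residue B (algebraMap A B (a i)) from Ideal.Quotient.eq.2 (ha i),
      residue_eq_zero_iff]
    exact map_nonunit _ _ ((residue_eq_zero_iff _).1 h6)
  let W := Submodule.span (ResidueField B) (Set.range fun i => (maximalIdeal B).toCotangent (z i))
  have hW : Module.finrank (ResidueField B) W = r := by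
    rw [finrank_span_eq_card hli, Fintype.card_fin]
  let bQ := Module.finBasis (ResidueField B) (CotangentSpace B ⧸ W)
  set s := Module.finrank (ResidueField B) (CotangentSpace B ⧸ W) with hs
  choose w hw using fun j =>
    (W.mkQ_surjective.comp (maximalIdeal B).toCotangent_surjective) (bQ j)
  let I : Ideal B := (maximalIdeal A).map (algebraMap A B)
  have hI : I ≤ maximalIdeal B := Ideal.map_le_iff_le_comap.2 fun a ha => map_nonunit _ _ ha
  let N : Ideal B := I ⊔ Ideal.span (Set.range fun j => (w j : B))
  have hgen : maximalIdeal B ≤ N := by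
    refine Submodule.le_of_le_smul_of_le_jacobson_bot (I := maximalIdeal B)
      (IsNoetherian.noetherian _) (maximalIdeal_le_jacobson _) ?_
    intro m hm
    rw [smul_eq_mul, ← pow_two]
    have hspan : ∀ v : CotangentSpace B, ∃ n : maximalIdeal B, (n : B) ∈ N ∧ v = (maximalIdeal B).toCotangent n := by
      intro v
      obtain ⟨g, hg⟩ : ∃ g : Fin s → ResidueField B, W.mkQ v = ∑ j, g j • bQ j :=
        ⟨_, (bQ.sum_repr _).symm⟩
      choose c hc using fun j => residue_surjective (R := B) (g j)
      have hd : v - (maximalIdeal B).toCotangent (∑ j, c j • w j) ∈ W := by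
        rw [← Submodule.Quotient.mk_eq_zero, Submodule.Quotient.mk_sub, sub_eq_zero]
        refine hg.trans ?_
        rw [map_sum]
        refine Eq.trans ?_ (map_sum W.mkQ _ _).symm
        refine Finset.sum_congr rfl fun j _ => ?_
        rw [← hw j, map_smul, ← hc j, Function.comp_apply, ← map_smul]
        exact congrArg W.mkQ (IsScalarTower.algebraMap_smul (ResidueField B) _ _)
      obtain ⟨g', hg'⟩ := (Submodule.mem_span_range_iff_exists_fun _).1 hd
      choose c' hc' using fun i => residue_surjective (R := B) (g' i)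
      refine ⟨∑ i, c' i • z i + ∑ j, c j • w j, ?_, ?_⟩
      · rw [Submodule.coe_add, Submodule.coe_sum, Submodule.coe_sum]
        refine add_mem (Ideal.mem_sup_left (Ideal.sum_mem _ fun i _ => I.mul_mem_left _ (Ideal.mem_map_of_mem _ (y i).2)))
          (Ideal.mem_sup_right (Ideal.sum_mem _ fun j _ => Ideal.mul_mem_left _ _ (Ideal.subset_span ⟨j, rfl⟩)))
      · rw [map_add, ← sub_eq_iff_eq_add, ← hg', map_sum]
        refine Finset.sum_congr rfl fun i _ => ?_
        rw [map_smul, ← hc' i]
        exact IsScalarTower.algebraMap_smul (ResidueField B) _ _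
    obtain ⟨n, hn, hn'⟩ := hspan ((maximalIdeal B).toCotangent ⟨m, hm⟩)
    rw [Ideal.toCotangent_eq] at hn'
    exact Submodule.mem_sup.2 ⟨n, hn, _, hn', add_sub_cancel _ _⟩
  haveI : Nontrivial (B ⧸ I) := Ideal.Quotient.nontrivial_iff.2
    fun h => (maximalIdeal.isMaximal B).ne_top (top_le_iff.1 (h ▸ hI))
  haveI : IsLocalRing (B ⧸ I) := IsLocalRing.of_surjective' _ Ideal.Quotient.mk_surjective
  have hmap : (maximalIdeal B).map (Ideal.Quotient.mk I) = maximalIdeal (B ⧸ I) := by
    exact map_maximalIdeal_of_surjective _ Ideal.Quotient.mk_surjective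
  have hfib : ((maximalIdeal B).map (Ideal.Quotient.mk I)).height ≤ (s : ℕ∞) := by
    rw [hmap]
    refine (Ideal.height_le_spanFinrank (maximalIdeal (B ⧸ I)) (maximalIdeal.isMaximal _).ne_top).trans ?_
    have h1 : maximalIdeal (B ⧸ I) = Ideal.span (Set.range fun j => Ideal.Quotient.mk I (w j)) := by
      refine le_antisymm ?_ (Ideal.span_le.2 ?_)
      · rw [← hmap, Ideal.map_le_iff_le_comap]
        refine hgen.trans (sup_le (fun x hx => ?_) (Ideal.span_le.2 ?_))
        · show Ideal.Quotient.mk I x ∈ Ideal.span (Set.range fun j => Ideal.Quotient.mk I (w j : B))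
          rw [Ideal.Quotient.eq_zero_iff_mem.2 hx]
          exact zero_mem _
        · rintro _ ⟨j, rfl⟩; exact Ideal.subset_span ⟨j, rfl⟩
      · rintro _ ⟨j, rfl⟩; rw [← hmap]; exact Ideal.mem_map_of_mem _ (w j).2
    rw [h1]
    refine Nat.cast_le.2 ((Submodule.spanFinrank_span_le_ncard_of_finite (Set.finite_range _)).trans ?_)
    rw [← Set.image_univ]
    exact (Set.ncard_image_le Set.finite_univ).trans (by simp)
  have hd : (maximalIdeal B).height = ((r + s : ℕ) : ℕ∞) := by
    have h1 := IsRegularLocalRing.spanFinrank_maximalIdeal (R := B)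
    rw [spanFinrank_maximalIdeal_eq_finrank_cotangentSpace, ← maximalIdeal_height_eq_ringKrullDim,
      ← W.finrank_quotient_add_finrank, hW] at h1
    rw [add_comm]
    exact (WithBot.coe_inj.1 h1).symm
  -- the image is as large as the source
  rw [RingHom.injective_iff_ker_eq_bot]
  by_contra hker
  obtain ⟨a, ha, ha0⟩ := Submodule.exists_mem_ne_zero_of_ne_bot hker
  let K : Ideal A := Ideal.span {a}
  have hKB : ∀ x ∈ K, algebraMap A B x = 0 := fun x hx => by
    obtain ⟨c, rfl⟩ := Ideal.mem_span_singleton'.1 hx
    rw [map_mul, RingHom.mem_ker.1 ha, mul_zero]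
  have hKm : K ≤ maximalIdeal A := (Ideal.span_singleton_le_iff_mem _).2 (by
    by_contra h
    have hu := (notMem_maximalIdeal.1 h).map (algebraMap A B)
    rw [RingHom.mem_ker.1 ha] at hu
    exact not_isUnit_zero hu)
  letI : Algebra (A ⧸ K) B := (Ideal.Quotient.lift K (algebraMap A B) hKB).toAlgebra
  haveI : Nontrivial (A ⧸ K) := Ideal.Quotient.nontrivial_iff.2
    fun h => (maximalIdeal.isMaximal A).ne_top (top_le_iff.1 (h ▸ hKm))
  haveI : IsLocalRing (A ⧸ K) := IsLocalRing.of_surjective' _ Ideal.Quotient.mk_surjective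
  have hmA : (maximalIdeal A).map (Ideal.Quotient.mk K) = maximalIdeal (A ⧸ K) :=
    map_maximalIdeal_of_surjective _ Ideal.Quotient.mk_surjective
  have hI' : (maximalIdeal (A ⧸ K)).map (algebraMap (A ⧸ K) B) = I := by
    rw [← hmA, Ideal.map_map]
    rfl
  haveI : (maximalIdeal B).LiesOver (maximalIdeal (A ⧸ K)) :=
    ⟨((maximalIdeal.isMaximal (A ⧸ K)).eq_of_le (Ideal.comap_ne_top _ (maximalIdeal.isMaximal B).ne_top)
      (Ideal.map_le_iff_le_comap.1 (hI'.le.trans hI)))⟩
  have hle := Ideal.height_le_height_add_of_liesOver (maximalIdeal (A ⧸ K)) (maximalIdeal B)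
  rw [hI', hd] at hle
  replace hle := hle.trans (add_le_add le_rfl hfib)
  have hquot : ringKrullDim (A ⧸ K) + 1 ≤ ringKrullDim A :=
    ringKrullDim_quotient_succ_le_of_nonZeroDivisor (mem_nonZeroDivisors_of_ne_zero ha0)
  have hA : ringKrullDim A ≤ (r : ℕ) := by
    rw [hr, ← spanFinrank_maximalIdeal_eq_finrank_cotangentSpace]
    exact ringKrullDim_le_spanFinrank_maximalIdeal A
  have h3 : (maximalIdeal (A ⧸ K)).height + 1 ≤ (r : ℕ∞) := by
    have := hquot.trans hA
    rw [← maximalIdeal_height_eq_ringKrullDim] at this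
    exact_mod_cast this
  obtain ⟨n, hn⟩ := ENat.ne_top_iff_exists.1
    (ne_top_of_le_ne_top (ENat.natCast_ne_top r) (le_self_add.trans h3))
  rw [← hn] at h3 hle
  norm_cast at h3 hle
  omega

end Groth.Agent.CotangentInjLib
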